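import Mathlib

set_option autoImplicit false
universe u

namespace Groth.Agent.Lib.Helper19.Torus

open AddMonoidAlgebra

/-- Units of a group algebra `A[G]` over a domain, for `G` with two unique sums, are monomials. -/
theorem isUnit_iff_single {A : Type*} [CommRing A] [IsDomain A] {G : Type*} [AddCommGroup G]
    [TwoUniqueSums G] (f : AddMonoidAlgebra A G) (hf : IsUnit f) :
    ∃ (e : G) (a : A), IsUnit a ∧ f = single e a := by
  classical
  obtain ⟨g, hfg⟩ := hf.exists_right_inv
  have hf0 : f ≠ 0 := by
    rintro rfl; rw [zero_mul] at hfg; exact zero_ne_one hfg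
  have hg0 : g ≠ 0 := by
    rintro rfl; rw [mul_zero] at hfg; exact zero_ne_one hfg
  have hfs : f.coeff.support.Nonempty := by
    rw [Finsupp.support_nonempty_iff]; simpa using hf0
  have hgs : g.coeff.support.Nonempty := by
    rw [Finsupp.support_nonempty_iff]; simpa using hg0
  have hcard : ¬ 1 < f.coeff.support.card * g.coeff.support.card := by
    intro h
    obtain ⟨p1, hp1, p2, hp2, hne, hu1, hu2⟩ := TwoUniqueSums.uniqueAdd_of_one_lt_card h
    rw [Finset.mem_product] at hp1 hp2
    have h1 : (f * g).coeff (p1.1 + p1.2) ≠ 0 := by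
      rw [coeff_mul_add_of_uniqueAdd hu1]
      exact mul_ne_zero (Finsupp.mem_support_iff.mp hp1.1) (Finsupp.mem_support_iff.mp hp1.2)
    have h2 : (f * g).coeff (p2.1 + p2.2) ≠ 0 := by
      rw [coeff_mul_add_of_uniqueAdd hu2]
      exact mul_ne_zero (Finsupp.mem_support_iff.mp hp2.1) (Finsupp.mem_support_iff.mp hp2.2)
    rw [hfg, one_def, coeff_single] at h1 h2
    have e1 : p1.1 + p1.2 = 0 := by
      by_contra hh; exact h1 (by rw [Finsupp.single_apply, if_neg (Ne.symm hh)])
    have e2 : p2.1 + p2.2 = 0 := by
      by_contra hh; exact h2 (by rw [Finsupp.single_apply, if_neg (Ne.symm hh)])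
    have := hu1 hp2.1 hp2.2 (e2.trans e1.symm)
    exact hne (Prod.ext this.1.symm this.2.symm)
  have hcf : f.coeff.support.card = 1 := by
    have h1 := Finset.card_pos.mpr hfs
    have h2 := Finset.card_pos.mpr hgs
    by_contra hh
    have : 2 ≤ f.coeff.support.card := by omega
    exact hcard (by nlinarith)
  have hcg : g.coeff.support.card = 1 := by
    have h1 := Finset.card_pos.mpr hfs
    have h2 := Finset.card_pos.mpr hgs
    by_contra hh
    have : 2 ≤ g.coeff.support.card := by omega
    exact hcard (by nlinarith)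
  obtain ⟨e, he0, hfe⟩ := Finsupp.card_support_eq_one.mp hcf
  obtain ⟨e', he0', hge⟩ := Finsupp.card_support_eq_one.mp hcg
  have hf' : f = single e (f.coeff e) := by
    apply coeff_injective; rw [coeff_single]; exact hfe
  have hg' : g = single e' (g.coeff e') := by
    apply coeff_injective; rw [coeff_single]; exact hge
  refine ⟨e, f.coeff e, ?_, hf'⟩
  rw [hf', hg', single_mul_single, one_def, single_inj] at hfg
  rcases hfg with ⟨-, h⟩ | ⟨-, h⟩
  · exact IsUnit.of_mul_eq_one _ h
  · exact absurd h one_ne_zero

end Groth.Agent.Lib.Helper19.Torus
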