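import Mathlib
import Groth.Agent.Lib.Helper19.Torus.Ring

set_option autoImplicit false
universe u

namespace Groth.Agent.Lib.Helper19.Torus

open AddMonoidAlgebra CategoryTheory Limits AlgebraicGeometry

variable (G : Type) [AddCommGroup G]

/-- the ring of the torus -/
abbrev RT : Type u := ULift.{u} (AddMonoidAlgebra ℤ G)

lemma ringHom_ulift_int_ext {C : Type*} [Ring C] (F F' : ULift.{u} ℤ →+* C) : F = F' := by
  ext r
  have hr : r = ((r.down : ℤ) : ULift.{u} ℤ) := by
    apply ULift.ext
    simp
  rw [hr, map_intCast, map_intCast]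

variable {G} in
/-- the monomial `t^e` in the ring of the torus -/
noncomputable def mon (e : G) : RT.{u} G := ULift.up (single e 1)

variable {G} in
lemma ringHom_RT_ext {C : Type*} [Ring C] (F F' : RT.{u} G →+* C)
    (h : ∀ e : G, F (mon e) = F' (mon e)) : F = F' := by
  have h2 : F.comp (ULift.ringEquiv.symm : AddMonoidAlgebra ℤ G ≃+* RT.{u} G).toRingHom =
      F'.comp (ULift.ringEquiv.symm : AddMonoidAlgebra ℤ G ≃+* RT.{u} G).toRingHom := by
    apply AddMonoidAlgebra.ringHom_ext
    · intro r
      have := RingHom.ext_int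
        ((F.comp (ULift.ringEquiv.symm : AddMonoidAlgebra ℤ G ≃+* RT.{u} G).toRingHom).comp
          singleZeroRingHom)
        ((F'.comp (ULift.ringEquiv.symm : AddMonoidAlgebra ℤ G ≃+* RT.{u} G).toRingHom).comp
          singleZeroRingHom)
      exact congrArg (fun φ => φ r) this
    · intro e
      exact h e
  ext x
  have := congrArg (fun φ => φ x.down) h2
  exact this

/-- `mon` as a monoid hom -/
noncomputable def monHom : Multiplicative G →* RT.{u} G :=
  ((ULift.ringEquiv.symm : AddMonoidAlgebra ℤ G ≃+* RT.{u} G) : _ →* _).comp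
    (AddMonoidAlgebra.of ℤ G)

lemma monHom_apply (e : G) : monHom.{u} G (Multiplicative.ofAdd e) = mon e := rfl

variable (A : Type u) [CommRing A]

/-- `A → A[G]` -/
noncomputable def inlHom : A →+* AddMonoidAlgebra A G := singleZeroRingHom

/-- `ℤ[G] → A[G]` -/
noncomputable def inrHom : RT.{u} G →+* AddMonoidAlgebra A G :=
  (mapRingHom G (Int.castRingHom A)).comp
    (ULift.ringEquiv : RT.{u} G ≃+* AddMonoidAlgebra ℤ G).toRingHom

lemma inrHom_mon (e : G) : inrHom G A (mon e) = single e 1 := by
  simp only [inrHom, mon, RingHom.coe_comp, Function.comp_apply]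
  change (mapRingHom G (Int.castRingHom A)) (single e 1) = single e 1
  simp

lemma inlHom_apply (a : A) : inlHom G A a = single 0 a := rfl

/-- `ℤ → A` -/
def baseA : ULift.{u} ℤ →+* A :=
  (Int.castRingHom A).comp (ULift.ringEquiv : ULift.{u} ℤ ≃+* ℤ).toRingHom

/-- `ℤ → ℤ[G]` -/
noncomputable def baseT : ULift.{u} ℤ →+* RT.{u} G :=
  (Int.castRingHom (RT.{u} G)).comp (ULift.ringEquiv : ULift.{u} ℤ ≃+* ℤ).toRingHom

lemma isPushout_ring :
    IsPushout (CommRingCat.ofHom (baseA.{u} A)) (CommRingCat.ofHom (baseT.{u} G))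
      (CommRingCat.ofHom (inlHom G A)) (CommRingCat.ofHom (inrHom G A)) := by
  have w : CommRingCat.ofHom (baseA.{u} A) ≫ CommRingCat.ofHom (inlHom G A) =
      CommRingCat.ofHom (baseT.{u} G) ≫ CommRingCat.ofHom (inrHom G A) := by
    ext1
    exact ringHom_ulift_int_ext _ _
  refine ⟨⟨w⟩, ⟨PushoutCocone.IsColimit.mk w
    (fun s => CommRingCat.ofHom (liftNCRingHom s.inl.hom
      ((s.inr.hom : RT.{u} G →* s.pt).comp (monHom.{u} G)) (fun _ _ => Commute.all _ _)))
    ?_ ?_ ?_⟩⟩
  · intro s
    ext a
    simp [inlHom_apply]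
  · intro s
    ext1
    apply ringHom_RT_ext
    intro e
    simp only [CommRingCat.hom_comp, CommRingCat.hom_ofHom, RingHom.coe_comp, Function.comp_apply,
      inrHom_mon, liftNCRingHom_single, map_one, one_mul, MonoidHom.coe_comp, MonoidHom.coe_coe,
      monHom_apply]
  · intro s m h1 h2
    ext1
    apply AddMonoidAlgebra.ringHom_ext
    · intro a
      have := congrArg (fun φ => φ.hom a) h1
      simpa [inlHom_apply] using this
    · intro e
      have := congrArg (fun φ => φ.hom (mon e)) h2
      simp only [CommRingCat.hom_comp, CommRingCat.hom_ofHom, RingHom.coe_comp,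
        Function.comp_apply, inrHom_mon] at this
      simp only [CommRingCat.hom_ofHom, liftNCRingHom_single, map_one, one_mul,
        MonoidHom.coe_comp, MonoidHom.coe_coe, Function.comp_apply, monHom_apply]
      exact this

end Groth.Agent.Lib.Helper19.Torus
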