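import Mathlib
import Groth.Agent.Lib.Helper19.Torus.Aff

set_option autoImplicit false
universe u

namespace Groth.Agent.Lib.Helper19.Torus

open AddMonoidAlgebra CategoryTheory Limits AlgebraicGeometry

variable (G : Type) [AddCommGroup G]

/-- the torus -/
noncomputable abbrev TT : Scheme.{u} := Spec (CommRingCat.of (RT.{u} G))

variable {G} in
/-- the monomial function on the torus -/
noncomputable def τ (e : G) : Γ(TT.{u} G, ⊤) :=
  (Scheme.ΓSpecIso (CommRingCat.of (RT.{u} G))).inv (mon e)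

variable {G} in
/-- the "monomial" function `pr₁^* u · pr₂^* t^e` on `X × T` -/
noncomputable def M (X : Scheme.{u}) (u : Γ(X, ⊤)) (e : G) : Γ(X ⨯ TT.{u} G, ⊤) :=
  (prod.fst : X ⨯ TT.{u} G ⟶ X).appTop u * (prod.snd : X ⨯ TT.{u} G ⟶ TT.{u} G).appTop (τ e)

variable {G} in
lemma M_natural {X' X : Scheme.{u}} (h : X' ⟶ X) (u : Γ(X, ⊤)) (e : G) :
    (prod.map h (𝟙 (TT.{u} G))).appTop (M X u e) = M X' (h.appTop u) e := by
  unfold M
  rw [map_mul]
  congr 1
  · rw [← CommRingCat.comp_apply, ← Scheme.Hom.comp_appTop, prod.map_fst,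
      Scheme.Hom.comp_appTop, CommRingCat.comp_apply]
  · rw [← CommRingCat.comp_apply, ← Scheme.Hom.comp_appTop, prod.map_snd, Category.comp_id]

section Affine

variable (A : CommRingCat.{u})

/-- `Spec A[G]` is the product of `Spec A` and the torus. -/
noncomputable def fanLimit :
    IsLimit (BinaryFan.mk (Spec.map (CommRingCat.ofHom (inlHom G A)))
      (Spec.map (CommRingCat.ofHom (inrHom G A)))) :=
  isProductOfIsTerminalIsPullback
    (Spec.map (CommRingCat.ofHom (baseA.{u} A))) (Spec.map (CommRingCat.ofHom (baseT.{u} G))) _ _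
    specULiftZIsTerminal
    (isPullback_SpecMap_of_isPushout _ _ _ _ (isPushout_ring G A)).isLimit

/-- the comparison iso -/
noncomputable def θ : Spec (CommRingCat.of (AddMonoidAlgebra A G)) ≅ Spec A ⨯ TT.{u} G :=
  IsLimit.conePointUniqueUpToIso (t := BinaryFan.mk prod.fst prod.snd) (fanLimit G A)
    (prodIsProd (Spec A) (TT.{u} G))

lemma θ_fst : (θ G A).hom ≫ prod.fst = Spec.map (CommRingCat.ofHom (inlHom G A)) := by
  unfold θ
  exact IsLimit.conePointUniqueUpToIso_hom_comp (fanLimit G A) (prodIsProd _ _) ⟨WalkingPair.left⟩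

lemma θ_snd : (θ G A).hom ≫ prod.snd = Spec.map (CommRingCat.ofHom (inrHom G A)) := by
  unfold θ
  exact IsLimit.conePointUniqueUpToIso_hom_comp (fanLimit G A) (prodIsProd _ _) ⟨WalkingPair.right⟩

lemma θ_appTop_injective : Function.Injective (θ G A).hom.appTop := by
  apply Function.LeftInverse.injective (g := (θ G A).inv.appTop)
  intro x
  rw [← CommRingCat.comp_apply, ← Scheme.Hom.comp_appTop, Iso.inv_hom_id]
  simp

variable {G} in
lemma θ_M (a : A) (e : G) :
    (θ G A).hom.appTop (M (Spec A) ((Scheme.ΓSpecIso A).inv a) e) =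
      (Scheme.ΓSpecIso (CommRingCat.of (AddMonoidAlgebra A G))).inv (single e a) := by
  unfold M
  rw [map_mul, ← CommRingCat.comp_apply, ← Scheme.Hom.comp_appTop, θ_fst,
    ← CommRingCat.comp_apply (prod.snd : Spec A ⨯ TT.{u} G ⟶ TT.{u} G).appTop,
    ← Scheme.Hom.comp_appTop, θ_snd]
  have h1 := congrArg (fun φ => φ.hom a)
    (Scheme.ΓSpecIso_inv_naturality (CommRingCat.ofHom (inlHom G A)))
  have h2 := congrArg (fun φ => φ.hom (mon e))
    (Scheme.ΓSpecIso_inv_naturality (CommRingCat.ofHom (inrHom G A)))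
  simp only [CommRingCat.hom_comp, RingHom.coe_comp, Function.comp_apply,
    CommRingCat.hom_ofHom] at h1 h2
  unfold τ
  erw [← h1, ← h2]
  rw [inrHom_mon, inlHom_apply, ← map_mul, single_mul_single, zero_add, mul_one]

variable {G} in
/-- existence over a domain -/
lemma aff_exists [IsDomain A] [TwoUniqueSums G] (w : Γ(Spec A ⨯ TT.{u} G, ⊤)) (hw : IsUnit w) :
    ∃ (a : A) (e : G), IsUnit a ∧ w = M (Spec A) ((Scheme.ΓSpecIso A).inv a) e := by
  have hu : IsUnit ((Scheme.ΓSpecIso (CommRingCat.of (AddMonoidAlgebra A G))).hom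
      ((θ G A).hom.appTop w)) := (hw.map _).map _
  obtain ⟨e, a, ha, hea⟩ := isUnit_iff_single _ hu
  refine ⟨a, e, ha, ?_⟩
  apply θ_appTop_injective
  rw [θ_M, ← hea]
  simp

variable {G} in
/-- uniqueness over a nontrivial ring -/
lemma aff_unique (a a' : A) (e e' : G) (ha : a ≠ 0)
    (h : M (Spec A) ((Scheme.ΓSpecIso A).inv a) e = M (Spec A) ((Scheme.ΓSpecIso A).inv a') e') :
    e = e' ∧ a = a' := by
  have h2 := congrArg (θ G A).hom.appTop h
  rw [θ_M, θ_M] at h2
  have hinj : Function.Injective (Scheme.ΓSpecIso (CommRingCat.of (AddMonoidAlgebra A G))).inv := by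
    have : IsIso (Scheme.ΓSpecIso (CommRingCat.of (AddMonoidAlgebra A G))).inv := inferInstance
    exact ((ConcreteCategory.isIso_iff_bijective _).mp this).1
  have h3 := hinj h2
  rw [single_inj] at h3
  rcases h3 with h3 | ⟨h3, -⟩
  · exact h3
  · exact absurd h3 ha

end Affine

end Groth.Agent.Lib.Helper19.Torus
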