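import Mathlib
import Groth.Agent.Lib.Helper19.Torus.Sch

set_option autoImplicit false
universe u

namespace Groth.Agent.Lib.Helper19.Torus

open AddMonoidAlgebra CategoryTheory Limits AlgebraicGeometry

variable (G : Type) [AddCommGroup G]

/-- augmentation ℤ[G] → ℤ -/
noncomputable def augHom : RT.{u} G →+* ULift.{u} ℤ :=
  (ULift.ringEquiv.symm : ℤ ≃+* ULift.{u} ℤ).toRingHom.comp
    ((liftNCRingHom (RingHom.id ℤ) (1 : Multiplicative G →* ℤ) (fun _ _ => Commute.all _ _)).comp
      (ULift.ringEquiv : RT.{u} G ≃+* AddMonoidAlgebra ℤ G).toRingHom)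

variable {G} in
lemma augHom_mon (e : G) : augHom.{u} G (mon e) = 1 := by
  simp only [augHom, mon, RingHom.coe_comp, Function.comp_apply]
  change (ULift.ringEquiv.symm : ℤ ≃+* ULift.{u} ℤ)
    (liftNCRingHom (RingHom.id ℤ) (1 : Multiplicative G →* ℤ) _ (single e 1)) = 1
  rw [liftNCRingHom_single]
  simp

/-- unit section of the torus -/
noncomputable def ε (W : Scheme.{u}) : W ⟶ TT.{u} G :=
  specULiftZIsTerminal.from W ≫ Spec.map (CommRingCat.ofHom (augHom.{u} G))

lemma ε_comp {W' W : Scheme.{u}} (h : W' ⟶ W) : h ≫ ε G W = ε G W' := by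
  unfold ε
  rw [← Category.assoc]
  congr 1
  exact specULiftZIsTerminal.hom_ext _ _

variable {G} in
lemma ε_τ (W : Scheme.{u}) (e : G) : (ε G W).appTop (τ e) = 1 := by
  unfold ε τ
  rw [Scheme.Hom.comp_appTop, CommRingCat.comp_apply]
  have h := congrArg (fun φ => φ.hom (mon e))
    (Scheme.ΓSpecIso_inv_naturality (CommRingCat.ofHom (augHom.{u} G)))
  simp only [CommRingCat.hom_comp, RingHom.coe_comp, Function.comp_apply,
    CommRingCat.hom_ofHom] at h
  erw [← h]
  rw [augHom_mon, map_one, map_one]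

/-- the unit section of `X × T → X` -/
noncomputable def sec (X : Scheme.{u}) : X ⟶ X ⨯ TT.{u} G := prod.lift (𝟙 X) (ε G X)

lemma sec_natural {X' X : Scheme.{u}} (h : X' ⟶ X) :
    h ≫ sec G X = sec G X' ≫ prod.map h (𝟙 (TT.{u} G)) := by
  apply Limits.prod.hom_ext <;> simp [sec, ε_comp]

variable {G} in
lemma sec_M (X : Scheme.{u}) (u : Γ(X, ⊤)) (e : G) : (sec G X).appTop (M X u e) = u := by
  unfold M
  rw [map_mul, ← CommRingCat.comp_apply, ← Scheme.Hom.comp_appTop, sec, prod.lift_fst,
    ← CommRingCat.comp_apply (prod.snd : X ⨯ TT.{u} G ⟶ TT.{u} G).appTop,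
    ← Scheme.Hom.comp_appTop, prod.lift_snd, ε_τ, mul_one]
  simp

lemma isPullback_prodMap {X' X : Scheme.{u}} (j : X' ⟶ X) :
    IsPullback (prod.map j (𝟙 (TT.{u} G))) prod.fst prod.fst j := by
  have big : IsPullback (prod.map j (𝟙 (TT.{u} G)) ≫ prod.snd) (prod.fst : X' ⨯ TT.{u} G ⟶ X')
      (terminal.from (TT.{u} G)) (j ≫ terminal.from X) := by
    rw [prod.map_snd, Category.comp_id, terminal.comp_from]
    exact (IsPullback.of_hasBinaryProduct' X' (TT.{u} G)).flip
  exact IsPullback.of_right big (by simp) (IsPullback.of_hasBinaryProduct' X (TT.{u} G)).flip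

variable {G} in
lemma subsingleton_of_isEmpty (Y : Scheme.{u}) [IsEmpty Y] : Subsingleton Γ(Y, ⊤) := by
  have : (⊤ : Y.Opens) = ⊥ := by
    ext x; exact isEmptyElim x
  rw [this]; infer_instance

variable {G} in
lemma restrict_eq [TwoUniqueSums G] (X : Scheme.{u}) [IsIntegral X] (v : Γ(X ⨯ TT.{u} G, ⊤))
    (hv : IsUnit v) (aK : X.residueField (genericPoint X)) (e : G)
    (hvK : (prod.map (X.fromSpecResidueField (genericPoint X)) (𝟙 (TT.{u} G))).appTop v =
      M (Spec (X.residueField (genericPoint X)))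
        ((Scheme.ΓSpecIso (X.residueField (genericPoint X))).inv aK) e)
    (A : CommRingCat.{u}) (j : Spec A ⟶ X) (hj : IsOpenImmersion j) :
    (prod.map j (𝟙 (TT.{u} G))).appTop v = M (Spec A) (j.appTop ((sec G X).appTop v)) e := by
  by_cases hne : Nonempty (Spec A)
  · haveI : IsIntegral (Spec A) := isIntegral_of_isOpenImmersion j
    haveI : IsDomain A := (affine_isIntegral_iff A).mp inferInstance
    obtain ⟨a, e', ha, hw⟩ := aff_exists A ((prod.map j (𝟙 (TT.{u} G))).appTop v) (hv.map _)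
    have hξ : genericPoint X ∈ Set.range j.base := by
      rw [(genericPoint_spec X).mem_open_set_iff j.isOpenEmbedding.isOpen_range]
      obtain ⟨y⟩ := hne
      exact ⟨j.base y, trivial, y, rfl⟩
    have hrange : Set.range (X.fromSpecResidueField (genericPoint X)).base ⊆ Set.range j.base := by
      rw [Scheme.range_fromSpecResidueField]
      exact Set.singleton_subset_iff.mpr hξ
    let ψ := IsOpenImmersion.lift j (X.fromSpecResidueField (genericPoint X)) hrange
    have hψ : ψ ≫ j = X.fromSpecResidueField (genericPoint X) := IsOpenImmersion.lift_fac _ _ _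
    have h1 : (prod.map ψ (𝟙 (TT.{u} G))).appTop ((prod.map j (𝟙 (TT.{u} G))).appTop v) =
        (prod.map (X.fromSpecResidueField (genericPoint X)) (𝟙 (TT.{u} G))).appTop v := by
      rw [← CommRingCat.comp_apply, ← Scheme.Hom.comp_appTop, prod.map_map, hψ, Category.comp_id]
    rw [hw, M_natural, hvK] at h1
    set b := (Scheme.ΓSpecIso (X.residueField (genericPoint X))).hom
      (ψ.appTop ((Scheme.ΓSpecIso A).inv a)) with hb
    have hbu : IsUnit b := ((ha.map _).map _).map _
    have hb' : ψ.appTop ((Scheme.ΓSpecIso A).inv a) =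
        (Scheme.ΓSpecIso (X.residueField (genericPoint X))).inv b := by
      rw [hb]; simp
    rw [hb'] at h1
    obtain ⟨he, -⟩ := aff_unique _ b aK e' e hbu.ne_zero h1
    have hju : j.appTop ((sec G X).appTop v) = (Scheme.ΓSpecIso A).inv a := by
      rw [← CommRingCat.comp_apply, ← Scheme.Hom.comp_appTop, sec_natural,
        Scheme.Hom.comp_appTop, CommRingCat.comp_apply, hw, sec_M]
    rw [hw, hju, he]
  · rw [not_nonempty_iff] at hne
    haveI : IsEmpty ↥(Spec A ⨯ TT.{u} G) :=
      Function.isEmpty (prod.fst : Spec A ⨯ TT.{u} G ⟶ Spec A).base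
    haveI := subsingleton_of_isEmpty (Spec A ⨯ TT.{u} G)
    exact Subsingleton.elim _ _

variable {G} in
theorem main [TwoUniqueSums G] (X : Scheme.{u}) [IsIntegral X] (v : Γ(X ⨯ TT.{u} G, ⊤))
    (hv : IsUnit v) :
    ∃! p : (Γ(X, ⊤))ˣ × G, v = M X (p.1 : Γ(X, ⊤)) p.2 := by
  obtain ⟨aK, e, haK, hvK⟩ := aff_exists (X.residueField (genericPoint X))
    ((prod.map (X.fromSpecResidueField (genericPoint X)) (𝟙 (TT.{u} G))).appTop v) (hv.map _)
  have hu : IsUnit ((sec G X).appTop v) := hv.map _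
  have key : v = M X ((sec G X).appTop v) e := by
    refine Scheme.OpenCover.ext_elem _ _
      ((X.affineOpenCover.openCover).pullback₁ (prod.fst : X ⨯ TT.{u} G ⟶ X)) fun i => ?_
    let j := X.affineOpenCover.openCover.f i
    have hfst : pullback.fst (prod.fst : X ⨯ TT.{u} G ⟶ X) j =
        (isPullback_prodMap G j).isoPullback.inv ≫ prod.map j (𝟙 (TT.{u} G)) := by
      rw [Iso.eq_inv_comp]; exact (isPullback_prodMap G j).isoPullback_hom_fst
    change (pullback.fst (prod.fst : X ⨯ TT.{u} G ⟶ X) j).appTop _ =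
      (pullback.fst (prod.fst : X ⨯ TT.{u} G ⟶ X) j).appTop _
    rw [hfst, Scheme.Hom.comp_appTop, CommRingCat.comp_apply, CommRingCat.comp_apply]
    congr 1
    rw [M_natural]
    exact restrict_eq X v hv aK e hvK (X.affineOpenCover.X i) j
      (X.affineOpenCover.openCover.map_prop i)
  refine ⟨(hu.unit, e), key, ?_⟩
  rintro ⟨u', e'⟩ h'
  simp only at h'
  have h1 : ((sec G X).appTop v) = (u' : Γ(X, ⊤)) := by
    conv_lhs => rw [h']
    exact sec_M X _ e'
  have h2 := hvK
  rw [h', M_natural] at h2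
  set b := (Scheme.ΓSpecIso (X.residueField (genericPoint X))).hom
      ((X.fromSpecResidueField (genericPoint X)).appTop (u' : Γ(X, ⊤))) with hb
  have hbu : IsUnit b := ((u'.isUnit.map _).map _)
  have hb' : (X.fromSpecResidueField (genericPoint X)).appTop (u' : Γ(X, ⊤)) =
      (Scheme.ΓSpecIso (X.residueField (genericPoint X))).inv b := by
    rw [hb]; simp
  rw [hb'] at h2
  obtain ⟨he, -⟩ := aff_unique _ b aK e' e hbu.ne_zero h2
  refine Prod.ext (Units.ext ?_) he
  simp only [IsUnit.unit_spec]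
  exact h1.symm

end Groth.Agent.Lib.Helper19.Torus
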